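import Mathlib
import Cfsg.Prelude.Def_Blocks
import Cfsg.Prelude.Def_BlockRank
import Cfsg.Prelude.Def_BlockLocal
import Cfsg.Agent.H613.KKL.Defs

/-!
# S4577: 2-blocks of defect 4 (helper613, helper13): definitions

The 16-version of `H613/KKL/Defs.lean` (S4546): elementary abelian defect groups of order 16, inertial index divisible
by 5.

* `E16 D` : `D` is elementary abelian of order 16.
* `HZ G` : every 2-block of `G` with a defect group `E16` has only characters of height zero.
* `Five D y` : `y` is a 5-element which normalises `D` and acts irreducibly.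
* `Cfg D x` : the group-theoretic traces of a 2-block with defect group `D = 2^4` and inertial index divisible by 5,
  `x` in a defect class.
* `CfgB D x θ` : the same with the canonical character `θ` of `C_G(D)`.
* `NoCfg S` : there are no such `D`, `x` in `S`.
-/

set_option autoImplicit false

open Cfsg

namespace Cfsg.Agent.H613.KS

/-- elementary abelian of order 16 -/
structure E16 {G : Type*} [Group G] (D : Subgroup G) : Prop where
  card : Nat.card D = 16
  inv : ∀ d ∈ D, d * d = 1

/-- every 2-block of `G` with an elementary abelian defect group of order 16 has only characters of height zero -/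
def HZ (G : Type*) [Group G] [Finite G] : Prop :=
  ∀ M : Ideal AlgInt, IsPModular 2 M → ∀ B : Set (IrrCharacter G), IsPBlock M B →
    ∀ D : Subgroup G, IsDefectGroup 2 M B D → E16 D → ∀ χ ∈ B, blockHeight 2 B (χ : G → ℂ) = 0

/-- `y` is a 5-element normalising `D` and acting irreducibly on `D` -/
structure Five {G : Type*} [Group G] (D : Subgroup G) (y : G) : Prop where
  norm : ∀ d : G, y * d * y⁻¹ ∈ D ↔ d ∈ D
  five : ∃ m : ℕ, orderOf y = 5 ^ m
  irr : ∀ A : Subgroup G, A ≤ D → (∀ a ∈ A, y * a * y⁻¹ ∈ A) → A = ⊥ ∨ A = D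

/-- The group-theoretic configuration: `D ≅ 2^4` is a Sylow 2-subgroup of `C(x)`, `x` of odd order, a 5-element acts
irreducibly on `D`, and every normal 2-subgroup of the centralizer of a subgroup `R` of `D` is contained in `D`. -/
structure Cfg {S : Type*} [Group S] (D : Subgroup S) (x : S) : Prop where
  e16 : E16 D
  odd : Odd (orderOf x)
  comm : ∀ d ∈ D, d * x = x * d
  syl : ∀ Q : Subgroup S, IsPGroup 2 Q → (∀ q ∈ Q, q * x = x * q) →
    ∃ c : S, c * x = x * c ∧ ∀ q ∈ Q, c * q * c⁻¹ ∈ D
  five : ∃ y : S, Five D y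
  rad : ∀ R : Subgroup S, R ≤ D → ∀ N : Subgroup S, IsPGroup 2 N → N ≤ Subgroup.centralizer (R : Set S) →
    (∀ c ∈ Subgroup.centralizer (R : Set S), ∀ n ∈ N, c * n * c⁻¹ ∈ N) → N ≤ D

/-- no configuration in `S` -/
def NoCfg (S : Type*) [Group S] : Prop := ∀ (D : Subgroup S) (x : S), ¬ Cfg D x

/-- The configuration of a 2-block: `θ` is the canonical character of `C_G(D)`: trivial on `D`, of defect zero
for `C_G(D)/D`, and fixed by the element `y`; the stabilizer of `θ` in `N_G(D)` has odd index over `C_G(D)`: every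
2-element of `N_G(D)` which fixes `θ` centralises `D`; `θ(x) ≠ 0`. -/
structure CfgB {G : Type*} [Group G] (D : Subgroup G) (x : G)
    (θ : IrrCharacter ↥(Subgroup.centralizer (D : Set G))) : Prop extends Cfg D x where
  ker : ∀ d c : ↥(Subgroup.centralizer (D : Set G)), (d : G) ∈ D →
    (θ : ↥(Subgroup.centralizer (D : Set G)) → ℂ) (d * c) = (θ : ↥(Subgroup.centralizer (D : Set G)) → ℂ) c
  zero : (charDegree (θ : ↥(Subgroup.centralizer (D : Set G)) → ℂ)).factorization 2 + 4 =
    (Nat.card ↥(Subgroup.centralizer (D : Set G))).factorization 2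
  inv : ∃ y : G, Five D y ∧ ∀ c c' : ↥(Subgroup.centralizer (D : Set G)), (c' : G) = y * c * y⁻¹ →
    (θ : ↥(Subgroup.centralizer (D : Set G)) → ℂ) c' = (θ : ↥(Subgroup.centralizer (D : Set G)) → ℂ) c
  odd2 : ∀ g : G, (∀ d : G, g * d * g⁻¹ ∈ D ↔ d ∈ D) → (∃ k : ℕ, orderOf g = 2 ^ k) →
    (∀ c c' : ↥(Subgroup.centralizer (D : Set G)), (c' : G) = g * c * g⁻¹ →
      (θ : ↥(Subgroup.centralizer (D : Set G)) → ℂ) c' = (θ : ↥(Subgroup.centralizer (D : Set G)) → ℂ) c) →
    ∀ d ∈ D, g * d = d * g
  ne : ∀ h : x ∈ Subgroup.centralizer (D : Set G), (θ : ↥(Subgroup.centralizer (D : Set G)) → ℂ) ⟨x, h⟩ ≠ 0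

/-- no configuration of a 2-block in `S` -/
def NoCfgB (S : Type*) [Group S] [Finite S] : Prop :=
  ∀ (D : Subgroup S) (x : S) (θ : IrrCharacter ↥(Subgroup.centralizer (D : Set S))), ¬ CfgB D x θ

end Cfsg.Agent.H613.KS
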