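import Mathlib
import Cfsg.Agent.H769.SF.AutCard

/-!
# S4577: an odd order group of automorphisms of `2^4` with an element of order 5 acts freely  (helper613)
-/

set_option autoImplicit false

namespace Cfsg.Agent.H613.KS.Free

/-- fixed points of a map of prime period -/
theorem card_modEq {A : Type*} [Finite A] {p : ℕ} [Fact p.Prime] (f : A → A) (h : f^[p] = id) :
    Nat.card A ≡ Nat.card {a // f a = a} [MOD p] := by
  classical
  have := Fintype.ofFinite A
  let F : Function.End A := f
  have h1 : F ^ p ^ 1 = 1 := by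
    rw [pow_one]
    have h2 : ((F ^ p : Function.End A) : A → A) = f^[p] :=
      hom_coe_pow (fun g : Function.End A => g) rfl (fun _ _ => rfl) F p
    rw [h] at h2
    exact h2
  have h2 := Equiv.Perm.card_fixedPoints_modEq (α := A) (f := F) (p := p) (n := 1) h1
  rw [Nat.card_eq_fintype_card, Nat.card_eq_fintype_card]
  exact h2

/-- fixed points of an element of order dividing `p` in an action -/
theorem card_modEq_smul {E A : Type*} [Group E] [MulAction E A] [Finite A] {p : ℕ} [Fact p.Prime] {y : E}
    (hy : y ^ p = 1) : Nat.card A ≡ Nat.card {a : A // y • a = a} [MOD p] := by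
  refine card_modEq (fun a => y • a) ?_
  have h1 : ∀ n : ℕ, (fun a : A => y • a)^[n] = fun a => y ^ n • a := by
    intro n
    induction n with
    | zero => funext a; simp
    | succ n ih =>
      rw [Function.iterate_succ', ih]
      funext a
      show y • y ^ n • a = y ^ (n + 1) • a
      rw [pow_succ', mul_smul]
  rw [h1, hy]
  funext a
  exact one_smul _ a

section

variable {P : Type*} [Group P] [Finite P]

/-- invariant subgroups of a group of order 16 for an element of order 5 without fixed points -/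
theorem card_inv (hcard : Nat.card P = 16) {y : MulAut P} (hy : y ^ 5 = 1) (hfix : ∀ v : P, y v = v → v = 1)
    (A : Subgroup P) (hA : ∀ a ∈ A, y a ∈ A) : Nat.card A = 1 ∨ A = ⊤ := by
  have : Fact (Nat.Prime 5) := ⟨by norm_num⟩
  have h1 := card_modEq (A := A) (p := 5) (fun a => ⟨y a, hA a a.2⟩) (by
    have h2 : ∀ n : ℕ, ∀ a : A, (((fun a : A => (⟨y a, hA a a.2⟩ : A))^[n] a : A) : P) = (y ^ n) (a : P) := by
      intro n
      induction n with
      | zero => intro a; rfl
      | succ n ih =>
        intro a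
        rw [Function.iterate_succ', pow_succ']
        show y _ = y _
        rw [ih]
        rfl
    funext a
    apply Subtype.ext
    rw [h2, hy]
    rfl)
  have h2 : Nat.card {a : A // (⟨y a, hA a a.2⟩ : A) = a} = 1 := by
    rw [Nat.card_eq_one_iff_unique]
    refine ⟨⟨?_⟩, ⟨⟨1, ?_⟩⟩⟩
    · rintro ⟨a, ha⟩ ⟨b, hb⟩
      have h3 := hfix a (congrArg Subtype.val ha)
      have h4 := hfix b (congrArg Subtype.val hb)
      apply Subtype.ext
      apply Subtype.ext
      show (a : P) = b
      rw [h3, h4]
    · apply Subtype.ext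
      show y 1 = 1
      exact map_one y
  rw [h2] at h1
  have h3 : Nat.card A ∣ 16 := by rw [← hcard]; exact Subgroup.card_subgroup_dvd_card A
  have h4 : Nat.card A ≤ 16 := Nat.le_of_dvd (by norm_num) h3
  have h5 : Nat.card A = 1 ∨ Nat.card A = 16 := by
    obtain ⟨n, hn⟩ : ∃ n, n = Nat.card A := ⟨_, rfl⟩
    rw [← hn] at h1 h3 h4 ⊢
    unfold Nat.ModEq at h1
    interval_cases n <;> omega
  rcases h5 with h5 | h5
  · exact Or.inl h5
  · right
    apply Subgroup.eq_top_of_card_eq
    rw [h5, hcard]

/-- an automorphism commuting with `y` is free -/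
theorem free_of_comm (hcard : Nat.card P = 16) {y : MulAut P} (hy : y ^ 5 = 1) (hfix : ∀ v : P, y v = v → v = 1)
    {α : MulAut P} (hα : α * y = y * α) {v : P} (hv : v ≠ 1) (h : α v = v) : α = 1 := by
  let A : Subgroup P := (α : P ≃* P).toMonoidHom.eqLocus (MonoidHom.id P)
  have hmem : ∀ a, a ∈ A ↔ α a = a := fun a => Iff.rfl
  have hA : ∀ a ∈ A, y a ∈ A := by
    intro a ha
    rw [hmem] at ha ⊢
    have h1 : (α * y) a = (y * α) a := by rw [hα]
    show (α * y) a = _
    rw [h1]
    show y (α a) = y a
    rw [ha]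
  rcases card_inv hcard hy hfix A hA with h1 | h1
  · exfalso
    apply hv
    have h2 : (⟨v, (hmem v).2 h⟩ : A) = 1 := by
      have := (Nat.card_eq_one_iff_unique.1 h1).1
      exact Subsingleton.elim _ _
    exact congrArg Subtype.val h2
  · ext a
    have : a ∈ A := by rw [h1]; exact Subgroup.mem_top a
    exact (hmem a).1 this

theorem free_of_five (hel : ∀ x : P, x * x = 1) (hcard : Nat.card P = 16) (E : Subgroup (MulAut P))
    (hodd : ¬ 2 ∣ Nat.card E) (h5 : 5 ∣ Nat.card E) : ∀ α ∈ E, ∀ v : P, v ≠ 1 → α v = v → α = 1 := by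
  have f5 : Fact (Nat.Prime 5) := ⟨by norm_num⟩
  have f7 : Fact (Nat.Prime 7) := ⟨by norm_num⟩
  have hEf : Finite E := inferInstance
  -- the order of `E`
  have h0 : Nat.card E ∣ 20160 := by
    have h1 := Cfsg.Agent.H769.SF.AutCard.card_aut_dvd (G := P) (E := ⊤) (fun a _ => hel a)
      (by rw [Subgroup.card_top]; exact hcard) (E.map (MulAut.congr (Subgroup.topEquiv (G := P)).symm).toMonoidHom)
    rwa [Subgroup.card_map_of_injective (MulAut.congr (Subgroup.topEquiv (G := P)).symm).injective] at h1
  have h315 : Nat.card E ∣ 315 := by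
    have hc2 : Nat.Coprime (Nat.card E) (2 ^ 6) :=
      Nat.Coprime.pow_right 6 ((Nat.Prime.coprime_iff_not_dvd Nat.prime_two).2 hodd).symm
    exact hc2.dvd_of_dvd_mul_left (by norm_num; exact h0)
  -- an element of order 5
  obtain ⟨T⟩ : Nonempty (Sylow 5 E) := inferInstance
  have hT : Nat.card (T : Subgroup E) = 5 := by
    have h1 := T.card_eq_multiplicity
    have h2 : (Nat.card E).factorization 5 = 1 := by
      obtain ⟨k, hk⟩ := h5
      have h3 : k ∣ 63 := by
        rw [hk, show (315 : ℕ) = 5 * 63 by norm_num] at h315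
        exact Nat.dvd_of_mul_dvd_mul_left (by norm_num) h315
      have h4 : ¬ 5 ∣ k := fun h => by
        have := h.trans h3
        omega
      have hk0 : k ≠ 0 := by
        rintro rfl
        omega
      rw [hk, Nat.factorization_mul (by norm_num) hk0, Finsupp.add_apply,
        Nat.factorization_eq_zero_of_not_dvd h4, Nat.Prime.factorization_self (by norm_num)]
    rw [h2, pow_one] at h1
    exact h1
  obtain ⟨y, hyT⟩ : ∃ y : (T : Subgroup E), orderOf y = 5 := exists_prime_orderOf_dvd_card' 5 (by rw [hT])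
  have hyo : orderOf (y : E) = 5 := by rw [Subgroup.orderOf_coe, hyT]
  have hyg : Subgroup.zpowers (y : E) = T := by
    apply Subgroup.eq_of_le_of_card_ge (Subgroup.zpowers_le.2 y.2)
    rw [hT, Nat.card_zpowers, hyo]
  obtain ⟨z, hz⟩ : ∃ z : MulAut P, z = ((y : E) : MulAut P) := ⟨_, rfl⟩
  have hy5 : (y : E) ^ 5 = 1 := by
    have := pow_orderOf_eq_one (y : E)
    rwa [hyo] at this
  have hz5 : z ^ 5 = 1 := by
    rw [hz]
    exact congrArg Subtype.val hy5
  have hz1 : z ≠ 1 := by
    intro h
    have h1 : (y : E) = 1 := by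
      apply Subtype.ext
      rw [← hz, h]; rfl
    rw [h1, orderOf_one] at hyo
    omega
  -- no fixed points
  have hfix : ∀ v : P, z v = v → v = 1 := by
    let A : Subgroup P := (z : P ≃* P).toMonoidHom.eqLocus (MonoidHom.id P)
    have hmem : ∀ a, a ∈ A ↔ z a = a := fun a => Iff.rfl
    have h1 := card_modEq (A := P) (p := 5) (fun a => z a) (by
      have h2 : ∀ n : ℕ, ∀ a : P, ((fun a : P => z a)^[n] a) = (z ^ n) a := by
        intro n
        induction n with
        | zero => intro a; rfl
        | succ n ih =>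
          intro a
          rw [Function.iterate_succ', pow_succ']
          show z _ = z _
          rw [ih]
          rfl
      funext a
      rw [h2, hz5]
      rfl)
    have h2 : Nat.card A ≡ 1 [MOD 5] := by
      have h3 : Nat.card A = Nat.card {a : P // z a = a} := rfl
      rw [h3]
      refine h1.symm.trans ?_
      rw [hcard]
      decide
    have h3 : Nat.card A ∣ 16 := by rw [← hcard]; exact Subgroup.card_subgroup_dvd_card A
    have h4 : Nat.card A ≤ 16 := Nat.le_of_dvd (by norm_num) h3
    have h5 : Nat.card A = 1 ∨ Nat.card A = 16 := by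
      obtain ⟨n, hn⟩ : ∃ n, n = Nat.card A := ⟨_, rfl⟩
      rw [← hn] at h2 h3 h4 ⊢
      unfold Nat.ModEq at h2
      interval_cases n <;> omega
    rcases h5 with h5 | h5
    · intro v hv
      have h6 : (⟨v, (hmem v).2 hv⟩ : A) = 1 := by
        have := (Nat.card_eq_one_iff_unique.1 h5).1
        exact Subsingleton.elim _ _
      exact congrArg Subtype.val h6
    · exfalso
      apply hz1
      have h6 : A = ⊤ := Subgroup.eq_top_of_card_eq A (by rw [h5, hcard])
      ext a
      have : a ∈ A := by rw [h6]; exact Subgroup.mem_top a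
      exact (hmem a).1 this
  -- the normalizer of `T` centralizes `T`
  have hN : Subgroup.normalizer ((T : Subgroup E) : Set E) ≤ Subgroup.centralizer ((T : Subgroup E) : Set E) := by
    intro g hg
    -- `g y g⁻¹ = y ^ k`
    have h1 : g * y * g⁻¹ ∈ Subgroup.zpowers (y : E) := by
      rw [hyg]
      exact (Subgroup.mem_normalizer_iff.1 hg y).1 y.2
    obtain ⟨k, hk⟩ := h1
    have h2 : ∀ n : ℕ, g ^ n * y * (g ^ n)⁻¹ = (y : E) ^ (k ^ n) := by
      intro n
      induction n with
      | zero => simp
      | succ n ih =>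
        have e1 : g ^ (n + 1) * (y : E) * (g ^ (n + 1))⁻¹ = g * (g ^ n * y * (g ^ n)⁻¹) * g⁻¹ := by
          rw [pow_succ']; group
        have hk' : (y : E) ^ k = g * y * g⁻¹ := hk
        rw [e1, ih, ← conj_zpow, ← hk', ← zpow_mul, ← pow_succ']
    have hodd' : ¬ 2 ∣ orderOf g := fun h => hodd (h.trans (orderOf_dvd_natCard g))
    have h3 : (y : E) ^ (k ^ orderOf g) = y := by
      rw [← h2, pow_orderOf_eq_one]
      group
    have h4 : ((5 : ℕ) : ℤ) ∣ k ^ orderOf g - 1 := by
      rw [← hyo]
      rw [orderOf_dvd_iff_zpow_eq_one, zpow_sub, h3, zpow_one, mul_inv_cancel]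
    have h5 : (k : ZMod 5) ^ orderOf g = 1 := by
      have := (ZMod.intCast_zmod_eq_zero_iff_dvd (k ^ orderOf g - 1) 5).2 h4
      push_cast at this
      exact sub_eq_zero.1 this
    have hk0 : (k : ZMod 5) ≠ 0 := by
      intro h
      rw [h, zero_pow (orderOf_pos g).ne'] at h5
      exact zero_ne_one h5
    have h6 : (k : ZMod 5) ^ 4 = 1 := ZMod.pow_card_sub_one_eq_one hk0
    have h7 : (k : ZMod 5) = 1 := by
      have h8 : orderOf (k : ZMod 5) ∣ Nat.gcd (orderOf g) 4 := Nat.dvd_gcd (orderOf_dvd_of_pow_eq_one h5)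
        (orderOf_dvd_of_pow_eq_one h6)
      have h9 : Nat.gcd (orderOf g) 4 = 1 := by
        rw [show (4 : ℕ) = 2 ^ 2 by norm_num]
        exact Nat.Coprime.pow_right 2 ((Nat.Prime.coprime_iff_not_dvd Nat.prime_two).2 hodd').symm
      rw [h9, Nat.dvd_one, orderOf_eq_one_iff] at h8
      exact h8
    have h8 : (y : E) ^ k = y := by
      have h9 : ((5 : ℕ) : ℤ) ∣ k - 1 := by
        rw [← ZMod.intCast_zmod_eq_zero_iff_dvd]
        push_cast
        rw [h7, sub_self]
      rw [← hyo] at h9
      have h10 := orderOf_dvd_iff_zpow_eq_one.1 h9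
      rw [zpow_sub, zpow_one] at h10
      exact mul_inv_eq_one.1 h10
    have h9 : g * y * g⁻¹ = y := Eq.trans (Eq.symm hk) h8
    rw [Subgroup.mem_centralizer_iff]
    intro t ht
    have ht' : t ∈ Subgroup.zpowers (y : E) := by rw [hyg]; exact ht
    obtain ⟨n, rfl⟩ := ht'
    have h11 : Commute g (y : E) := mul_inv_eq_iff_eq_mul.1 h9
    exact (h11.zpow_right n).eq.symm
  -- the normal complement
  obtain ⟨K, hK⟩ : ∃ K, K = (MonoidHom.transferSylow T hN).ker := ⟨_, rfl⟩
  have hKn : K.Normal := by rw [hK]; infer_instance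
  have hcomp : Subgroup.IsComplement' K (T : Subgroup E) := by
    rw [hK]; exact MonoidHom.ker_transferSylow_isComplement' T hN
  have hKc : Nat.card K * 5 = Nat.card E := by rw [← hT]; exact hcomp.card_mul_card
  have hK63 : Nat.card K ∣ 63 := by
    rw [← hKc, show (315 : ℕ) = 63 * 5 by norm_num] at h315
    exact Nat.dvd_of_mul_dvd_mul_right (by norm_num) h315
  -- 7 does not divide its order
  have h7 : ¬ 7 ∣ Nat.card K := by
    intro h7
    obtain ⟨Q⟩ : Nonempty (Sylow 7 K) := inferInstance
    have hQ1 : Nat.card (Sylow 7 K) ≡ 1 [MOD 7] := card_sylow_modEq_one 7 K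
    have hQ2 : Nat.card (Sylow 7 K) ∣ (Q : Subgroup K).index := Q.card_dvd_index
    have hQ3 : ¬ 7 ∣ (Q : Subgroup K).index := Q.not_dvd_index
    have hQ4 : (Q : Subgroup K).index ∣ 63 := (Subgroup.index_dvd_card _).trans hK63
    have hQ5 : (Q : Subgroup K).index ∣ 9 := by
      have h1 : Nat.Coprime (Q : Subgroup K).index 7 := ((Nat.Prime.coprime_iff_not_dvd (by norm_num)).2 hQ3).symm
      exact h1.dvd_of_dvd_mul_left (by norm_num; exact hQ4)
    have hQ6 : Nat.card (Sylow 7 K) = 1 := by
      have h1 := hQ2.trans hQ5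
      have h2 := Nat.le_of_dvd (by norm_num) h1
      obtain ⟨n, hn⟩ : ∃ n, n = Nat.card (Sylow 7 K) := ⟨_, rfl⟩
      rw [← hn] at h1 h2 hQ1 ⊢
      unfold Nat.ModEq at hQ1
      interval_cases n <;> omega
    have hsub : Subsingleton (Sylow 7 K) := (Nat.card_eq_one_iff_unique.1 hQ6).1
    have hQn : (Q : Subgroup K).Normal := Sylow.normal_of_subsingleton Q
    have hQc : (Q : Subgroup K).Characteristic := Q.characteristic_of_normal hQn
    have hQE : ((Q : Subgroup K).map K.subtype).Normal := ConjAct.normal_of_characteristic_of_normal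
    let F : Subgroup P :=
      { carrier := {x | ∀ q : K, q ∈ (Q : Subgroup K) → ((q : E) : MulAut P) x = x}
        mul_mem' := by
          intro a b ha hb q hq
          rw [map_mul, ha q hq, hb q hq]
        one_mem' := fun q _ => map_one _
        inv_mem' := by
          intro a ha q hq
          rw [map_inv, ha q hq] }
    have hF : ∀ x, x ∈ F ↔ ∀ q : K, q ∈ (Q : Subgroup K) → ((q : E) : MulAut P) x = x := fun x => Iff.rfl
    have hFz : ∀ a ∈ F, z a ∈ F := by
      intro a ha q hq
      have h1 : (y : E)⁻¹ * (q : E) * (y : E)⁻¹⁻¹ ∈ (Q : Subgroup K).map K.subtype :=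
        hQE.conj_mem _ ⟨q, hq, rfl⟩ _
      obtain ⟨r, hr, hr'⟩ := h1
      have h2 := ha r hr
      have h3 : (r : E) = (y : E)⁻¹ * (q : E) * (y : E)⁻¹⁻¹ := hr'
      have h4 : (q : E) * (y : E) = (y : E) * (r : E) := by rw [h3]; group
      have h5 : ((q : E) : MulAut P) * z = z * ((r : E) : MulAut P) := by
        rw [hz]
        exact congrArg Subtype.val h4
      show (((q : E) : MulAut P) * z) a = z a
      rw [h5]
      show z (((r : E) : MulAut P) a) = z a
      rw [h2]
    have h8 := Q.2.card_modEq_card_fixedPoints P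
    have h9 : Nat.card (MulAction.fixedPoints (Q : Subgroup K) P) = Nat.card F := by
      refine Nat.card_congr (Equiv.subtypeEquivRight fun x => ?_)
      constructor
      · intro h q hq
        exact h ⟨q, hq⟩
      · rintro h ⟨q, hq⟩
        exact h q hq
    rw [h9, hcard] at h8
    rcases card_inv hcard hz5 hfix F hFz with h10 | h10
    · rw [h10] at h8
      exact absurd h8 (by decide)
    · have h11 : Nat.card (Q : Subgroup K) = 1 := by
        rw [Nat.card_eq_one_iff_unique]
        refine ⟨⟨?_⟩, ⟨1⟩⟩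
        have h12 : ∀ q : (Q : Subgroup K), q = 1 := by
          intro q
          apply Subtype.ext
          apply Subtype.ext
          apply Subtype.ext
          ext x
          have : x ∈ F := by rw [h10]; exact Subgroup.mem_top x
          exact this q q.2
        intro a b
        rw [h12 a, h12 b]
      have h12 : 7 ∣ Nat.card (Q : Subgroup K) := Q.dvd_card_of_dvd_card h7
      rw [h11] at h12
      omega
  have hK9 : Nat.card K ∣ 9 := by
    have h1 : Nat.Coprime (Nat.card K) 7 := ((Nat.Prime.coprime_iff_not_dvd (by norm_num)).2 h7).symm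
    exact h1.dvd_of_dvd_mul_left (by norm_num; exact hK63)
  -- `y` centralizes the complement
  have hKy : ∀ k ∈ K, (y : E) * k = k * y := by
    let C : Subgroup K := (Subgroup.centralizer {(y : E)}).subgroupOf K
    have h1 := card_modEq (A := K) (p := 5) (fun k => ⟨y * k * (y : E)⁻¹, hKn.conj_mem _ k.2 _⟩) (by
      have h2 : ∀ n : ℕ, ∀ k : K, (((fun k : K => (⟨y * k * (y : E)⁻¹, hKn.conj_mem _ k.2 _⟩ : K))^[n] k : K) : E) =
          (y : E) ^ n * k * ((y : E) ^ n)⁻¹ := by
        intro n
        induction n with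
        | zero => intro k; simp
        | succ n ih =>
          intro k
          rw [Function.iterate_succ', Function.comp_apply]
          show (y : E) * _ * (y : E)⁻¹ = _
          rw [ih, pow_succ']
          group
      funext k
      apply Subtype.ext
      rw [h2, hy5]
      simp)
    have h2 : Nat.card {k : K // (⟨y * k * (y : E)⁻¹, hKn.conj_mem _ k.2 _⟩ : K) = k} = Nat.card C := by
      refine Nat.card_congr (Equiv.subtypeEquivRight fun k => ?_)
      rw [Subgroup.mem_subgroupOf, Subgroup.mem_centralizer_singleton_iff, Subtype.ext_iff]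
      show (y : E) * k * (y : E)⁻¹ = k ↔ _
      rw [mul_inv_eq_iff_eq_mul]
      exact ⟨fun h => h.symm, fun h => h.symm⟩
    rw [h2] at h1
    have h3 : Nat.card C ∣ Nat.card K := Subgroup.card_subgroup_dvd_card C
    have h4 : Nat.card C = Nat.card K := by
      have h5 := Nat.le_of_dvd (by norm_num) hK9
      have h6 := Nat.le_of_dvd Nat.card_pos h3
      obtain ⟨n, hn⟩ : ∃ n, n = Nat.card K := ⟨_, rfl⟩
      obtain ⟨m, hm⟩ : ∃ m, m = Nat.card C := ⟨_, rfl⟩
      rw [← hn] at h1 h3 hK9 h5 h6 ⊢
      rw [← hm] at h1 h3 h6 ⊢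
      unfold Nat.ModEq at h1
      interval_cases n <;> interval_cases m <;> omega
    have h5 : C = ⊤ := Subgroup.eq_top_of_card_eq C h4
    intro k hk
    have h6 : (⟨k, hk⟩ : K) ∈ C := by rw [h5]; exact Subgroup.mem_top _
    rw [Subgroup.mem_subgroupOf, Subgroup.mem_centralizer_singleton_iff] at h6
    exact h6.symm
  -- all of `E` centralizes `y`
  intro α hα v hv h
  obtain ⟨⟨k, t⟩, hkt⟩ := hcomp.2 ⟨α, hα⟩
  have hkt' : (k : E) * (t : E) = ⟨α, hα⟩ := hkt
  have ht : (t : E) ∈ Subgroup.zpowers (y : E) := by rw [hyg]; exact t.2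
  obtain ⟨n, hn⟩ := ht
  have h1 : (⟨α, hα⟩ : E) * y = y * ⟨α, hα⟩ := by
    have h2 : Commute (y : E) (t : E) := by
      rw [← show (y : E) ^ n = t from hn]
      exact (Commute.refl _).zpow_right n
    have h3 : Commute (y : E) (k : E) := hKy k k.2
    rw [← hkt']
    exact (h3.mul_right h2).eq.symm
  refine free_of_comm hcard hz5 hfix (α := α) ?_ hv h
  rw [hz]
  exact congrArg Subtype.val h1

end

end Cfsg.Agent.H613.KS.Free
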