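import Mathlib
import Cfsg.Agent.H613.KS.Props

/-!
# S4577: the parity lemma (helper634) and inertial index divisible by 5, as propositions

* `Par` : for a 2-block `B` with defect group `E16` and a linear character `lam` of a subgroup of odd order, with
  multiplicities `m χ` of `χ` in the induced character, `∑_{χ ∈ B} (m χ)² (4 - ht χ)` is even;
* `HPar` : for integers `x χ` supported on `B` such that `∑ x χ χ` vanishes on the elements of even order, the sum of
  the `x χ` over the `χ` of odd height is even;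
* `PAFive` : inertial index divisible by 5: heights zero.
-/

set_option autoImplicit false

open Cfsg Cfsg.Agent.H613.KS

namespace Cfsg.Agent.H613.KS.Par

universe u

/-- the parity lemma of helper634; `m χ` = multiplicity of `lam` in the restriction of `χ` to `H` -/
def Par : Prop :=
  ∀ {G : Type u} [Group G] [Finite G] {M : Ideal AlgInt} (_ : IsPModular 2 M) {B : Set (IrrCharacter G)}
    (_ : IsPBlock M B) {D : Subgroup G} (_ : IsDefectGroup 2 M B D) (_ : E16 D) (H : Subgroup G)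
    (_ : ¬ 2 ∣ Nat.card ↥H) (lam : ↥H →* ℂˣ) (m : IrrCharacter G → ℕ)
    (_ : ∀ χ : IrrCharacter G, (m χ : ℂ) * (Nat.card ↥H : ℂ) = ∑ᶠ h : ↥H, (χ : G → ℂ) (h : G) * ((lam h)⁻¹ : ℂˣ)),
    Even (∑ᶠ χ ∈ B, (m χ) ^ 2 * (4 - blockHeight 2 B (χ : G → ℂ)))

/-- the consequence used in the counts -/
def HPar : Prop :=
  ∀ {G : Type u} [Group G] [Finite G] {M : Ideal AlgInt} (_ : IsPModular 2 M) {B : Set (IrrCharacter G)}
    (_ : IsPBlock M B) {D : Subgroup G} (_ : IsDefectGroup 2 M B D) (_ : E16 D) (x : IrrCharacter G → ℤ)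
    (_ : ∀ χ : IrrCharacter G, χ ∉ B → x χ = 0)
    (_ : ∀ g : G, Even (orderOf g) → ∑ᶠ χ : IrrCharacter G, (x χ : ℂ) * (χ : G → ℂ) g = 0),
    Even (∑ᶠ χ ∈ {χ : IrrCharacter G | χ ∈ B ∧ Odd (blockHeight 2 B (χ : G → ℂ))}, x χ)

/-- inertial index divisible by 5: heights zero -/
def PAFive : Prop :=
  ∀ {G : Type u} [Group G] [Finite G] {M : Ideal AlgInt} (_ : IsPModular 2 M) {B : Set (IrrCharacter G)}
    (_ : IsPBlock M B) {D : Subgroup G} (_ : IsDefectGroup 2 M B D) (_ : E16 D)
    (c : Set (IrrCharacter ↥(Subgroup.centralizer (D : Set G))))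
    (_ : IsInducedBlock M (Subgroup.centralizer (D : Set G)) c B) (T : Subgroup G)
    (_ : ∀ g : G, g ∈ T ↔ (g ∈ Subgroup.normalizer (D : Set G) ∧
      StabilizesBlock (Subgroup.centralizer (D : Set G)) c g))
    (_ : 5 ∣ (Subgroup.centralizer (D : Set G)).relIndex T), ∀ χ ∈ B, blockHeight 2 B (χ : G → ℂ) = 0

end Cfsg.Agent.H613.KS.Par
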